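import Groth.Agent.H12Pic.Bdd.Tau
import Groth.Agent.S14811

/-!
# Numerical triviality on the fibres of a proper morphism

It does not depend on the field point; it is τ-triviality on the geometric fibres.
-/

set_option autoImplicit false
set_option linter.style.haveILetI false
set_option linter.unusedSectionVars false
universe u

open CategoryTheory CategoryTheory.Limits AlgebraicGeometry
open Groth.Agent.H25Theta (pb pC pI)

noncomputable section

namespace Groth.Agent.H12Pic.TauOpen

open Groth.Agent.H12Pic.NumTriv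

variable {X S : Scheme.{u}} (f : X ⟶ S) [IsProper f] {L : X.Modules}

/-- `L` is numerically trivial on the fibre over a field point. -/
def NTAlong (L : X.Modules) {K : Type u} [Field K] (σ : Spec (CommRingCat.of K) ⟶ S) : Prop :=
  @Pic13.IsNumEquivZero K _ (pullback f σ) ⟨pullback.snd f σ⟩ (pb (pullback.fst f σ) L)

variable (hL : PicF.IsInvertible L)

include hL in
theorem ntAlong_sq {K : Type u} [Field K] (σ : Spec (CommRingCat.of K) ⟶ S) {X' : Scheme.{u}}
    [X'.Over (Spec (CommRingCat.of K))] (g : X' ⟶ X) (h : IsPullback g (X' ↘ Spec (CommRingCat.of K)) f σ) :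
    NTAlong f L σ ↔ Pic13.IsNumEquivZero K X' (pb g L) := by
  letI : (pullback f σ).Over (Spec (CommRingCat.of K)) := ⟨pullback.snd f σ⟩
  haveI : IsProper (pullback f σ ↘ Spec (CommRingCat.of K)) := inferInstanceAs (IsProper (pullback.snd f σ))
  haveI : IsProper (X' ↘ Spec (CommRingCat.of K)) := MorphismProperty.of_isPullback h inferInstance
  let t : pullback f σ ≅ X' := (IsPullback.of_hasPullback f σ).isoIsPullback _ _ h
  have h1 : t.hom ≫ g = pullback.fst f σ := IsPullback.isoIsPullback_hom_fst _ _ _ _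
  have h2 : t.inv ≫ pullback.fst f σ = g := by rw [Iso.inv_comp_eq, h1]
  have h3 : t.hom ≫ (X' ↘ Spec (CommRingCat.of K)) = pullback.snd f σ := IsPullback.isoIsPullback_hom_snd _ _ _ _
  have h4 : t.inv ≫ pullback.snd f σ = X' ↘ Spec (CommRingCat.of K) := by rw [Iso.inv_comp_eq, h3]
  exact ⟨fun hn => ((NT.pullback K t.inv h4 ⟨H11Ample.isInvertible_pullback _ hL, hn⟩).congr K
      (pC t.inv _ h2 L)).num,
    fun hn => ((NT.pullback K t.hom h3 ⟨H11Ample.isInvertible_pullback _ hL, hn⟩).congr K
      (pC t.hom _ h1 L)).num⟩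

include hL in
theorem ntAlong_ext {K : Type u} [Field K] (σ : Spec (CommRingCat.of K) ⟶ S) (E : Type u) [Field E] [Algebra K E] :
    NTAlong f L σ ↔ NTAlong f L (Spec.map (CommRingCat.ofHom (algebraMap K E)) ≫ σ) := by
  letI : (pullback f σ).Over (Spec (CommRingCat.of K)) := ⟨pullback.snd f σ⟩
  haveI : IsProper (pullback f σ ↘ Spec (CommRingCat.of K)) := inferInstanceAs (IsProper (pullback.snd f σ))
  let τ := Spec.map (CommRingCat.ofHom (algebraMap K E))
  let q := pullback.fst (pullback f σ ↘ Spec (CommRingCat.of K)) τ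
  letI : (pullback (pullback f σ ↘ Spec (CommRingCat.of K)) τ).Over (Spec (CommRingCat.of E)) := ⟨pullback.snd _ _⟩
  haveI : IsProper (pullback (pullback f σ ↘ Spec (CommRingCat.of K)) τ ↘ Spec (CommRingCat.of E)) :=
    inferInstanceAs (IsProper (pullback.snd _ _))
  have hsq : IsPullback (q ≫ pullback.fst f σ) (pullback (pullback f σ ↘ Spec (CommRingCat.of K)) τ ↘
      Spec (CommRingCat.of E)) f (τ ≫ σ) :=
    (IsPullback.of_hasPullback (pullback f σ ↘ Spec (CommRingCat.of K)) τ).paste_horiz
      (IsPullback.of_hasPullback f σ)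
  rw [ntAlong_sq f hL (τ ≫ σ) (q ≫ pullback.fst f σ) hsq]
  refine (S14811.result K (pullback f σ) (pb (pullback.fst f σ) L) (H11Ample.isInvertible_pullback _ hL) E).trans ?_
  have hi := H11Ample.isInvertible_pullback q (H11Ample.isInvertible_pullback (pullback.fst f σ) hL)
  exact ⟨fun hn => (NT.congr E ⟨hi, hn⟩ (pC q (pullback.fst f σ) rfl L)).num,
    fun hn => (NT.congr E ⟨H11Ample.isInvertible_pullback _ hL, hn⟩ (pC q (pullback.fst f σ) rfl L).symm).num⟩

include hL in
theorem ntAlong_hom {K : Type u} [Field K] (σ : Spec (CommRingCat.of K) ⟶ S) {E : Type u} [Field E] (φ : K →+* E) :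
    NTAlong f L σ ↔ NTAlong f L (Spec.map (CommRingCat.ofHom φ) ≫ σ) :=
  @ntAlong_ext _ _ f _ L hL K _ σ E _ φ.toAlgebra

include hL in
/-- Numerical triviality only depends on the point. -/
theorem ntAlong_iff_residue {K : Type u} [Field K] (σ : Spec (CommRingCat.of K) ⟶ S) {s : S}
    (hs : σ (IsLocalRing.closedPoint K) = s) : NTAlong f L σ ↔ NTAlong f L (S.fromSpecResidueField s) := by
  subst hs
  let b := S.descResidueField (Scheme.stalkClosedPointTo σ)
  have hb : Spec.map b ≫ S.fromSpecResidueField _ = σ :=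
    Scheme.descResidueField_stalkClosedPointTo_fromSpecResidueField K S σ
  have h := ntAlong_hom f hL (K := S.residueField (σ (IsLocalRing.closedPoint K)))
    (S.fromSpecResidueField (σ (IsLocalRing.closedPoint K))) (E := K) b.hom
  exact ((h.trans (iff_of_eq (congrArg (NTAlong f L) hb)))).symm

/-- `L` is numerically trivial on the fibre at a point. -/
def NTAt (L : X.Modules) (s : S) : Prop := NTAlong f L (S.fromSpecResidueField s)

include hL in
theorem tauTrivialAt_iff (s : S) : Pic13.IsTauTrivialAt f L s ↔ NTAt f L s := by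
  constructor
  · intro h
    obtain ⟨Ω, iF, iA, ⟨φ⟩⟩ : ∃ (Ω : Type u) (_ : Field Ω), ∃ (_ : IsAlgClosed Ω), Nonempty (S.residueField s →+* Ω) :=
      ⟨AlgebraicClosure (S.residueField s), inferInstance, inferInstance, ⟨algebraMap _ _⟩⟩
    let σ : Spec (CommRingCat.of Ω) ⟶ S := Spec.map (CommRingCat.ofHom φ) ≫ S.fromSpecResidueField s
    have hmem : ∀ z, σ z = s := fun z => (Scheme.Hom.comp_apply _ _ z).trans (Scheme.fromSpecResidueField_apply s _)
    have hσ : Set.range σ.base = {s} :=
      Set.eq_singleton_iff_unique_mem.2 ⟨⟨IsLocalRing.closedPoint Ω, hmem _⟩, by rintro _ ⟨z, rfl⟩; exact hmem z⟩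
    letI : (pullback f σ).Over (Spec (CommRingCat.of Ω)) := ⟨pullback.snd f σ⟩
    haveI : IsProper (pullback f σ ↘ Spec (CommRingCat.of Ω)) := inferInstanceAs (IsProper (pullback.snd f σ))
    exact (ntAlong_iff_residue f hL σ (hmem _)).1
      (Bdd.nt_of_tau Ω (H11Ample.isInvertible_pullback _ hL) (h Ω σ hσ)).num
  · intro h Ω _ _ σ hσ
    letI : (pullback f σ).Over (Spec (CommRingCat.of Ω)) := ⟨pullback.snd f σ⟩
    haveI : IsProper (pullback f σ ↘ Spec (CommRingCat.of Ω)) := inferInstanceAs (IsProper (pullback.snd f σ))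
    have hs : σ (IsLocalRing.closedPoint Ω) = s := (hσ ▸ Set.mem_range_self _ : σ.base _ ∈ ({s} : Set S))
    exact Bdd.isTauEquivZero_of_nt Ω ⟨H11Ample.isInvertible_pullback _ hL, (ntAlong_iff_residue f hL σ hs).2 h⟩

end Groth.Agent.H12Pic.TauOpen
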