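import Groth.Agent.H12Pic.TauOpen.Basic
import Groth.Agent.H12Pic.FinField.Proj
import Groth.Agent.H06EGA14b.GeomReducedComp
import Groth.Agent.H18Subtr.OverValuation
import Groth.Agent.H28Vert.TrivGeneric
import Groth.Agent.H28Bc.EulerConst
import Groth.Agent.H28Bc.FieldPoint
import Groth.Agent.H06EGA9.StructureStalk

/-!
# Numerical triviality on the fibres is stable under generization

A curve of the generic fibre over a discrete valuation ring has a flat closure.
-/

set_option autoImplicit false
set_option linter.style.haveILetI false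
set_option linter.unusedSectionVars false
universe u

open CategoryTheory CategoryTheory.Limits AlgebraicGeometry TopologicalSpace
open Groth.Agent.H25Theta (pb pC pI)

noncomputable section

namespace Groth.Agent.H12Pic.TauOpen

open Groth.Agent.H12Pic.NumTriv

variable {R : Type u} [CommRing R] [IsDomain R] [IsDiscreteValuationRing R] {X : Scheme.{u}}
  (p : X ⟶ Spec (CommRingCat.of R)) [IsProper p] {L : X.Modules}

/-- From the closed fibre to the generic fibre. -/
theorem ntAlong_generic (hL : PicF.IsInvertible L) {k : Type u} [Field k]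
    (σ₀ : Spec (CommRingCat.of k) ⟶ Spec (CommRingCat.of R))
    (hpt₀ : ∀ z, σ₀ z = IsLocalRing.closedPoint R) (h0 : NTAlong p L σ₀) :
    NTAlong p L (Spec.map (CommRingCat.ofHom (algebraMap R (FractionRing R)))) := by
  classical
  let K := FractionRing R
  let jS : Spec (CommRingCat.of K) ⟶ Spec (CommRingCat.of R) := Spec.map (CommRingCat.ofHom (algebraMap R K))
  haveI : IsOpenImmersion jS := H28Vert.isOpenImmersion_generic R
  let XK := pullback p jS
  letI : XK.Over (Spec (CommRingCat.of K)) := ⟨pullback.snd p jS⟩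
  haveI : IsProper (XK ↘ Spec (CommRingCat.of K)) := inferInstanceAs (IsProper (pullback.snd p jS))
  let j : XK ⟶ X := pullback.fst p jS
  intro C i _ hC hd
  haveI := hC
  let ξ := j (i (genericPoint C))
  let J := Scheme.IdealSheafData.vanishingIdeal (H22Alg.DevLength.cl ξ)
  haveI : IsIntegral J.subscheme := H22Alg.isIntegral_vanishingIdeal_closure ξ
  let Z := J.subscheme
  let ζ := J.subschemeι
  have hζ : Set.range ζ = closure ({ξ} : Set X) := H17.range_vanishingIdeal_subschemeι _
  -- the generic fibre of the closure is the curve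
  let jZ : pullback ζ j ⟶ XK := pullback.snd ζ j
  haveI : IsReduced (pullback ζ j) := isReduced_of_isOpenImmersion (pullback.fst ζ j)
  have hrange : Set.range jZ = Set.range i := by
    have hci : Set.range i = closure ({i (genericPoint C)} : Set XK) := LeadDev.range_eq_closure i rfl
    have hjZ : Set.range jZ = j ⁻¹' Set.range ζ := by
      show Set.range (pullback.snd ζ j) = _
      rw [Scheme.Pullback.range_snd]
    rw [hjZ, hζ, hci, j.isOpenEmbedding.isOpenMap.preimage_closure_eq_closure_preimage j.continuous]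
    congr 1
    ext z
    exact ⟨fun hz => j.isOpenEmbedding.injective hz, fun hz => congrArg j hz⟩
  obtain ⟨e, he⟩ := H17.exists_iso_of_range_eq i jZ hrange.symm
  let gC : C ⟶ Z := e.hom ≫ pullback.fst ζ j
  let π : Z ⟶ Spec (CommRingCat.of R) := ζ ≫ p
  letI : C.Over (Spec (CommRingCat.of K)) := ⟨i ≫ pullback.snd p jS⟩
  haveI : IsProper (C ↘ Spec (CommRingCat.of K)) := inferInstanceAs (IsProper (i ≫ pullback.snd p jS))
  have hsqC : IsPullback gC (C ↘ Spec (CommRingCat.of K)) π jS := by
    refine ((IsPullback.of_hasPullback ζ j).paste_vert (IsPullback.of_hasPullback p jS)).of_iso e.symm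
      (Iso.refl _) (Iso.refl _) (Iso.refl _) (by simp [gC]) ?_ (by simp [π]) (by simp)
    show (jZ ≫ pullback.snd p jS) ≫ 𝟙 _ = e.inv ≫ (i ≫ pullback.snd p jS)
    rw [← he, Category.comp_id, ← Category.assoc e.inv, Iso.inv_hom_id_assoc]
  haveI : IsProper π := inferInstanceAs (IsProper (ζ ≫ p))
  haveI : IsLocallyNoetherian Z := LocallyOfFiniteType.isLocallyNoetherian π
  haveI : LocallyOfFinitePresentation π := LocallyOfFinitePresentation.iff_locallyOfFiniteType.2 inferInstance
  have hgen : gC (genericPoint C) = genericPoint Z := by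
    refine ζ.isClosedEmbedding.injective ?_
    have h1 : ζ (gC (genericPoint C)) = ξ := by
      rw [← Scheme.Hom.comp_apply, show gC ≫ ζ = i ≫ j by
        rw [Category.assoc, pullback.condition, ← Category.assoc, he]]
      rfl
    have h2 : IsGenericPoint (ζ (genericPoint Z)) (closure {ξ}) :=
      (LeadDev.range_eq_closure ζ (ξ := ζ (genericPoint Z)) rfl).symm.trans hζ
    rw [h1, h2.eq isGenericPoint_closure]
  haveI : Flat π := by
    refine H18Subtr.flat_of_isIntegral_of_map_genericPoint π ?_
    rw [← hgen, ← Scheme.Hom.comp_apply, hsqC.w, Scheme.Hom.comp_apply]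
    refine PrimeSpectrum.ext ?_
    show Ideal.comap (algebraMap R K) _ = ⊥
    rw [(Ideal.eq_bot_or_top ((C ↘ Spec (CommRingCat.of K)) (genericPoint C)).asIdeal).resolve_right
      ((C ↘ Spec (CommRingCat.of K)) (genericPoint C)).isPrime.ne_top]
    exact Ideal.comap_bot_of_injective _ (IsFractionRing.injective R K)
  -- the two fibres
  let M := pb ζ L
  have hM : PicF.IsInvertible M := H11Ample.isInvertible_pullback _ hL
  have hO : PicF.IsInvertible (Coh.structureModule Z) := H11Ample.isInvertible_structureModule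
  have hflat : ∀ G : Z.Modules, PicF.IsInvertible G → FlatMod.IsFlatOver π G := fun G hG x =>
    (H06EGA9.isFlatOverAt_congr_iso π (H10Coh.Tw.leftUnitIso G) x).1
      (H12Pic.AlgEquivEuler.isFlatOverAt_tensor π hG
        ((H06EGA9.isFlatOverAt_structureModule_iff π x).2 (Flat.stalkMap π x)))
  have hloc : ∀ G : Z.Modules, PicF.IsInvertible G → ∀ a b : Spec (CommRingCat.of R),
      PerfAux.eulerChar π G a = PerfAux.eulerChar π G b := fun G hG a b => by
    have hc := H11Ample.isCoh_of_isInvertible hG
    haveI : G.IsQuasicoherent := hc.1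
    haveI : PreconnectedSpace (Spec (CommRingCat.of R)) :=
      inferInstanceAs (PreconnectedSpace (PrimeSpectrum R))
    exact (H28Bc.isLocallyConstant_eulerChar π G (H10Coh.isFP_of_isCoh G hc)
      (hflat G hG)).apply_eq_of_preconnectedSpace a b
  let s₀ : Spec (CommRingCat.of R) := IsLocalRing.closedPoint R
  letI : (pullback π σ₀).Over (Spec (CommRingCat.of k)) := ⟨pullback.snd π σ₀⟩
  haveI : IsProper (pullback π σ₀ ↘ Spec (CommRingCat.of k)) := inferInstanceAs (IsProper (pullback.snd π σ₀))
  letI : (pullback p σ₀).Over (Spec (CommRingCat.of k)) := ⟨pullback.snd p σ₀⟩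
  haveI : IsProper (pullback p σ₀ ↘ Spec (CommRingCat.of k)) := inferInstanceAs (IsProper (pullback.snd p σ₀))
  let z₀ := pullback.fst π σ₀
  let ι₀ : pullback π σ₀ ⟶ pullback p σ₀ :=
    pullback.lift (z₀ ≫ ζ) (pullback.snd π σ₀) (by rw [Category.assoc]; exact pullback.condition)
  have hN : NT k (pb z₀ M) :=
    (NT.pullback k ι₀ (pullback.lift_snd _ _ _) ⟨H11Ample.isInvertible_pullback _ hL, h0⟩).congr k
      (pC ι₀ _ (pullback.lift_fst _ _ _) L ≪≫ (pC z₀ ζ rfl L).symm)
  have hclosed : PerfAux.eulerChar π M s₀ = PerfAux.eulerChar π (Coh.structureModule Z) s₀ := by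
    rw [← H28Bc.euler_eq_eulerChar π M (H11Ample.isCoh_of_isInvertible hM) (hflat M hM) z₀ σ₀
        (IsPullback.of_hasPullback π σ₀) hpt₀,
      ← H28Bc.euler_eq_eulerChar π (Coh.structureModule Z) (H11Ample.isCoh_of_isInvertible hO) (hflat _ hO) z₀ σ₀
        (IsPullback.of_hasPullback π σ₀) hpt₀,
      H25Euler.euler_congr (H10Coh.Tw.rightUnitIso (pb z₀ M)).symm,
      FinField.euler_tensor_field k (H11Ample.isCoh_of_isInvertible H11Ample.isInvertible_structureModule) hN]
    exact H25Euler.euler_congr (H16Derived.KFlat.Stalk.structurePullbackIso z₀).symm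
  let sK : Spec (CommRingCat.of R) := jS (IsLocalRing.closedPoint K)
  haveI : Subsingleton (Spec (CommRingCat.of K)) := inferInstanceAs (Subsingleton (PrimeSpectrum K))
  have hptK : ∀ z, jS z = sK := fun z => congrArg jS (Subsingleton.elim z _)
  have hgeneric : Curv2.euler K C (pb gC M) = Curv2.euler K C (pb gC (Coh.structureModule Z)) := by
    rw [H28Bc.euler_eq_eulerChar π M (H11Ample.isCoh_of_isInvertible hM) (hflat M hM) gC jS hsqC hptK,
      H28Bc.euler_eq_eulerChar π (Coh.structureModule Z) (H11Ample.isCoh_of_isInvertible hO) (hflat _ hO) gC jS hsqC hptK,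
      hloc M hM sK s₀, hclosed, hloc _ hO s₀ sK]
  have hgζ : gC ≫ ζ = i ≫ j := by rw [Category.assoc, pullback.condition, ← Category.assoc, he]
  let eL : pb gC M ≅ pb i (pb j L) := pC gC ζ hgζ L ≪≫ (pC i j rfl L).symm
  show FGA.eulerCharLE K C (pb i (pb j L)) 1 - FGA.eulerCharLE K C (Coh.structureModule C) 1 = 0
  have hd1 : topologicalKrullDim C ≤ ((1 : ℕ) : WithBot ℕ∞) := hd.le.trans (by simp)
  rw [H28Int.eulerCharLE_eq K hd1 (H11Ample.isCoh_of_isInvertible
      (H11Ample.isInvertible_pullback i (H11Ample.isInvertible_pullback j hL))).1,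
    H28Int.eulerCharLE_eq K hd1 (H11Ample.isCoh_of_isInvertible H11Ample.isInvertible_structureModule).1,
    ← H25Euler.euler_congr eL, hgeneric,
    H25Euler.euler_congr (H16Derived.KFlat.Stalk.structurePullbackIso gC), sub_self]

/-- Numerical triviality passes to generizations. -/
theorem ntAt_of_specializes {Y S : Scheme.{u}} [IsLocallyNoetherian S] (f : Y ⟶ S) [IsProper f] {L : Y.Modules}
    (hL : PicF.IsInvertible L) {η s : S} (h : η ⤳ s) (hs : NTAt f L s) : NTAt f L η := by
  rcases eq_or_ne η s with rfl | hne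
  · exact hs
  obtain ⟨V, g, hV, hg0, hgη⟩ :=
    H06EGA14b.exists_dvr_hom h hne (IsLocalRing.ResidueField (S.presheaf.stalk η))
  haveI := hV
  let p := pullback.snd f g
  let M := pb (pullback.fst f g) L
  have hM : PicF.IsInvertible M := H11Ample.isInvertible_pullback _ hL
  have key : ∀ {K : Type u} [Field K] (σ : Spec (CommRingCat.of K) ⟶ Spec (CommRingCat.of V)),
      NTAlong p M σ ↔ NTAlong f L (σ ≫ g) := fun {K} _ σ => by
    letI : (pullback p σ).Over (Spec (CommRingCat.of K)) := ⟨pullback.snd p σ⟩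
    haveI : IsProper (pullback p σ ↘ Spec (CommRingCat.of K)) := inferInstanceAs (IsProper (pullback.snd p σ))
    have hsq : IsPullback (pullback.fst p σ ≫ pullback.fst f g) (pullback p σ ↘ Spec (CommRingCat.of K)) f (σ ≫ g) :=
      (IsPullback.of_hasPullback p σ).paste_horiz (IsPullback.of_hasPullback f g)
    rw [ntAlong_sq f hL (σ ≫ g) _ hsq]
    exact ⟨fun hn => (NT.congr K ⟨H11Ample.isInvertible_pullback _ hM, hn⟩ (pC _ _ rfl L)).num,
      fun hn => (NT.congr K ⟨H11Ample.isInvertible_pullback _ hL, hn⟩ (pC _ _ rfl L).symm).num⟩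
  let σ₀ : Spec (CommRingCat.of (IsLocalRing.ResidueField V)) ⟶ Spec (CommRingCat.of V) :=
    Spec.map (CommRingCat.ofHom (IsLocalRing.residue V))
  have hpt₀ : ∀ z, σ₀ z = IsLocalRing.closedPoint V := fun z => PrimeSpectrum.ext <| by
    show Ideal.comap (IsLocalRing.residue V) z.asIdeal = IsLocalRing.maximalIdeal V
    rw [(Ideal.eq_bot_or_top z.asIdeal).resolve_right z.isPrime.ne_top, ← RingHom.ker_eq_comap_bot,
      IsLocalRing.ker_residue]
  have hK := ntAlong_generic p hM σ₀ hpt₀ ((key σ₀).2 ((ntAlong_iff_residue f hL (σ₀ ≫ g)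
    ((Scheme.Hom.comp_apply σ₀ g _).trans ((congrArg g (hpt₀ _)).trans hg0))).2 hs))
  refine (ntAlong_iff_residue f hL _ ?_).1 ((key _).1 hK)
  -- the generic point goes to the generization
  let j := Spec.map (CommRingCat.ofHom (algebraMap V (FractionRing V)))
  let j' := Spec.map (CommRingCat.ofHom V.subtype)
  have hbot : ∀ {K : Type u} [Field K] (φ : V →+* K), Function.Injective φ → ∀ z,
      Spec.map (CommRingCat.ofHom φ) z = (⊥ : PrimeSpectrum V) := fun {K} _ φ hφ z => by
    refine PrimeSpectrum.ext ?_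
    show Ideal.comap φ z.asIdeal = ⊥
    rw [(Ideal.eq_bot_or_top z.asIdeal).resolve_right z.isPrime.ne_top]
    exact Ideal.comap_bot_of_injective _ hφ
  let c := IsLocalRing.closedPoint (IsLocalRing.ResidueField (S.presheaf.stalk η))
  have h1 : g (j' c) = η := by
    rw [← Scheme.Hom.comp_apply, hgη, Scheme.Hom.comp_apply]
    exact Scheme.fromSpecResidueField_apply _ _
  show g (j _) = η
  rw [hbot _ (IsFractionRing.injective V (FractionRing V)), ← hbot V.subtype Subtype.val_injective c]
  exact h1

end Groth.Agent.H12Pic.TauOpen
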