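import Groth.Agent.H12Pic.TauOpen.Basic
import Groth.Agent.H12Pic.InvertibleStage
import Groth.Agent.H18PBC.SubalgSystem
import Groth.Agent.H7Lim.FPDescent.Exists
import Groth.Agent.H8Props.IsoDescent.Basic

/-!
# A deformation to the trivial module over an algebraic closure comes from a finitely generated algebra
-/

set_option autoImplicit false
set_option linter.style.haveILetI false
set_option linter.unusedSectionVars false
set_option backward.isDefEq.respectTransparency false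
universe u

open CategoryTheory CategoryTheory.Limits AlgebraicGeometry Opposite TopologicalSpace
open Groth.Agent.H25Theta (pb pC pI)

noncomputable section

namespace Groth.Agent.H12Pic.TauOpen

open Groth.Agent.H12Pic.NumTriv H7Lim H7Lim.FPDescent

variable {X S : Scheme.{u}} (f : X ⟶ S)

section stage

variable {B P : Scheme.{u}} (st : B ⟶ S) (a : P ⟶ B)

/-- The product with a family of parameters over a scheme over the base. -/
abbrev W : Scheme.{u} := pullback f (a ≫ st)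

/-- The slice along a section. -/
def sl (τ : B ⟶ P) (hτ : τ ≫ a = 𝟙 B) : pullback f st ⟶ W f st a :=
  pullback.lift (pullback.fst f st) (pullback.snd f st ≫ τ)
    (by rw [pullback.condition, Category.assoc, ← Category.assoc τ, hτ, Category.id_comp])

variable {K : Type u} [Field K] (σ : Spec (CommRingCat.of K) ⟶ B)

/-- The parameters over a field point. -/
abbrev TK : Scheme.{u} := pullback a σ

instance overK : (pullback f (σ ≫ st)).Over (Spec (CommRingCat.of K)) := ⟨pullback.snd _ _⟩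

/-- A section over a field point. -/
def secK (τ : B ⟶ P) (hτ : τ ≫ a = 𝟙 B) : Spec (CommRingCat.of K) ⟶ TK a σ :=
  pullback.lift (σ ≫ τ) (𝟙 _) (by rw [Category.assoc, hτ, Category.comp_id, Category.id_comp])

theorem secK_snd (τ : B ⟶ P) (hτ : τ ≫ a = 𝟙 B) : secK a σ τ hτ ≫ pullback.snd a σ = 𝟙 _ :=
  pullback.lift_snd _ _ _

/-- The product over a field point maps to the product. -/
def toW : Pic13.prodK K (pullback f (σ ≫ st)) (pullback.snd a σ) ⟶ W f st a :=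
  pullback.lift (pullback.fst _ _ ≫ pullback.fst f (σ ≫ st)) (pullback.snd _ _ ≫ pullback.fst a σ) (by
    simp only [Category.assoc]
    rw [pullback.condition (f := f), pullback.condition_assoc (f := a)]
    exact (reassoc_of% pullback.condition (f := pullback f (σ ≫ st) ↘ Spec (CommRingCat.of K))
      (g := pullback.snd a σ)) (σ ≫ st))

/-- The fibre maps to the base change. -/
def toStage : pullback f (σ ≫ st) ⟶ pullback f st :=
  pullback.lift (pullback.fst _ _) (pullback.snd _ _ ≫ σ) (by rw [Category.assoc]; exact pullback.condition)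

theorem slice_toW (τ : B ⟶ P) (hτ : τ ≫ a = 𝟙 B) :
    Pic13.sliceAt K (pullback f (σ ≫ st)) (pullback.snd a σ) (secK a σ τ hτ) (secK_snd a σ τ hτ) ≫ toW f st a σ =
      toStage f st σ ≫ sl f st a τ hτ := by
  refine pullback.hom_ext ?_ ?_
  · simp [Pic13.sliceAt, toW, toStage, sl]
    exact Category.id_comp _
  · simp [Pic13.sliceAt, toW, toStage, sl, secK]
    rfl

variable [IsProper f] {L : X.Modules}

/-- A deformation over a stage gives numerical triviality at the field points with connected parameters. -/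
theorem ntAlong_of_witness (hL : PicF.IsInvertible L) {M : (W f st a).Modules} (hM : PicF.IsInvertible M)
    [LocallyOfFiniteType a] [QuasiCompact a] {τ τ₀ : B ⟶ P} (hτ : τ ≫ a = 𝟙 B) (hτ₀ : τ₀ ≫ a = 𝟙 B) {n : ℕ}
    (hn : 0 < n) (e : pb (sl f st a τ hτ) M ≅ pb (pullback.fst f st) (CohB1.tensorPow L n))
    (e₀ : pb (sl f st a τ₀ hτ₀) M ≅ Coh.structureModule (pullback f st)) [IsAlgClosed K]
    (hconn : ConnectedSpace (TK a σ)) : NTAlong f L (σ ≫ st) := by
  haveI : IsProper (pullback f (σ ≫ st) ↘ Spec (CommRingCat.of K)) :=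
    inferInstanceAs (IsProper (pullback.snd f (σ ≫ st)))
  let Ln := CohB1.tensorPow L n
  have hv : toStage f st σ ≫ pullback.fst f st = pullback.fst f (σ ≫ st) := pullback.lift_fst _ _ _
  have halg : Pic13.IsAlgEquivZero K (pullback f (σ ≫ st)) (pb (pullback.fst f (σ ≫ st)) Ln) := by
    refine ⟨TK a σ, pullback.snd a σ, hconn, inferInstance, inferInstance, pb (toW f st a σ) M,
      H11Ample.isInvertible_pullback _ hM, secK a σ τ hτ, secK a σ τ₀ hτ₀, secK_snd a σ τ hτ, secK_snd a σ τ₀ hτ₀, ⟨?_⟩, ⟨?_⟩⟩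
    · exact pC _ _ (slice_toW f st a σ τ hτ) M ≪≫ (pC (toStage f st σ) (sl f st a τ hτ) rfl M).symm ≪≫
        (Scheme.Modules.pullback (toStage f st σ)).mapIso e ≪≫ pC (toStage f st σ) _ hv Ln
    · exact pC _ _ (slice_toW f st a σ τ₀ hτ₀) M ≪≫ (pC (toStage f st σ) (sl f st a τ₀ hτ₀) rfl M).symm ≪≫
        (Scheme.Modules.pullback (toStage f st σ)).mapIso e₀ ≪≫ H16Derived.KFlat.Stalk.structurePullbackIso _
  have hn' := Bdd.nt_of_algEquiv K (H11Ample.isInvertible_pullback _ (H11Ample.isInvertible_tensorPow hL n)) halg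
  obtain ⟨w⟩ := H11Ample.exists_iso_pullback_tensorPow (pullback.fst f (σ ≫ st)) hL n
  exact (Bdd.nt_of_pow K (H11Ample.isInvertible_pullback _ hL) hn (hn'.congr K w)).num

end stage

/-- Comparing two pullbacks of a module along a factorisation. -/
theorem isoAlong_of_comp {Z A B Y C : Scheme.{u}} {e₁ : Z ⟶ A} {s : A ⟶ B} {v : Z ⟶ Y} {s' : Y ⟶ C} {h : C ⟶ B}
    (hc : e₁ ≫ s = v ≫ s' ≫ h) {M : B.Modules} {N : C.Modules} (eM : pb h M ≅ N) {G : A.Modules}
    (e : pb v (pb s' N) ≅ pb e₁ G) : H8Props.IsoDescent.IsoAlong e₁ (pb s M) G :=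
  ⟨pC e₁ s hc M ≪≫ (pC v (s' ≫ h) rfl M).symm ≪≫
    (Scheme.Modules.pullback v).mapIso ((pC s' h rfl M).symm ≪≫ (Scheme.Modules.pullback s').mapIso eM) ≪≫ e⟩

/-- An isomorphism along a map seen through a finer one. -/
theorem iso_of_isoAlong {Z Z' A B B' : Scheme.{u}} {e₁ : Z ⟶ A} {s : A ⟶ B} {r₁ : Z' ⟶ Z} {s' : Z' ⟶ B'}
    {r : B' ⟶ B} (hc : s' ≫ r = r₁ ≫ e₁ ≫ s) {M : B.Modules} {G : A.Modules} {v : Z' ⟶ A} (hv : r₁ ≫ e₁ = v)
    (e : H8Props.IsoDescent.IsoAlong e₁ (pb s M) G) : Nonempty (pb s' (pb r M) ≅ pb v G) :=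
  e.elim fun e => ⟨pC s' r hc M ≪≫ (pC r₁ (e₁ ≫ s) rfl M).symm ≪≫
    (Scheme.Modules.pullback r₁).mapIso ((pC e₁ s rfl M).symm ≪≫ e) ≪≫ pC r₁ e₁ hv G⟩

variable {R : Type u} [CommRing R] [IsDomain R] [IsNoetherianRing R] {X : Scheme.{u}}
  (p : X ⟶ Spec (CommRingCat.of R)) [IsProper p] {L : X.Modules} {Ω : Type u} [Field Ω] [IsAlgClosed Ω] [Algebra R Ω]

/-- The structure map of a subalgebra. -/
abbrev stS (A : Subalgebra R Ω) : Spec (CommRingCat.of A) ⟶ Spec (CommRingCat.of R) :=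
  Spec.map (CommRingCat.ofHom (algebraMap R A))

/-- The point of a subalgebra. -/
abbrev ptS (A : Subalgebra R Ω) : Spec (CommRingCat.of Ω) ⟶ Spec (CommRingCat.of A) :=
  Spec.map (CommRingCat.ofHom A.val.toRingHom)

set_option maxHeartbeats 1600000 in
/-- The witness is defined over a finitely generated subalgebra. -/
theorem exists_witness (hL : PicF.IsInvertible L)
    (h : NTAlong p L (Spec.map (CommRingCat.ofHom (algebraMap R Ω)))) :
    ∃ (A : Subalgebra R Ω) (_ : A.FG) (P : Scheme.{u}) (a : P ⟶ Spec (CommRingCat.of A)) (_ : LocallyOfFiniteType a)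
      (_ : QuasiCompact a) (τ τ₀ : Spec (CommRingCat.of A) ⟶ P) (hτ : τ ≫ a = 𝟙 _) (hτ₀ : τ₀ ≫ a = 𝟙 _) (n : ℕ),
      0 < n ∧ ConnectedSpace (pullback a (ptS A) : Scheme.{u}) ∧ ∃ M : (W p (stS A) a).Modules, PicF.IsInvertible M ∧
        Nonempty (pb (sl p (stS A) a τ hτ) M ≅ pb (pullback.fst p (stS A)) (CohB1.tensorPow L n)) ∧
        Nonempty (pb (sl p (stS A) a τ₀ hτ₀) M ≅ Coh.structureModule (pullback p (stS A))) := by
  classical
  haveI : IsLocallyNoetherian X := LocallyOfFiniteType.isLocallyNoetherian p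
  let σ : Spec (CommRingCat.of Ω) ⟶ Spec (CommRingCat.of R) := Spec.map (CommRingCat.ofHom (algebraMap R Ω))
  let Y := pullback p σ
  letI : Y.Over (Spec (CommRingCat.of Ω)) := ⟨pullback.snd p σ⟩
  haveI : IsProper (Y ↘ Spec (CommRingCat.of Ω)) := inferInstanceAs (IsProper (pullback.snd p σ))
  obtain ⟨n, hn, T, q, hT, hq, hq', M, hM, t, t₀, ht, ht₀, ⟨et⟩, ⟨et₀⟩⟩ :=
    Bdd.isTauEquivZero_of_nt Ω (⟨H11Ample.isInvertible_pullback _ hL, h⟩ : NT Ω (pb (pullback.fst p σ) L))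
  haveI := hq
  haveI := hq'
  haveI : IsLocallyNoetherian T := LocallyOfFiniteType.isLocallyNoetherian q
  haveI : CompactSpace T := QuasiCompact.compactSpace_of_compactSpace q
  haveI : LocallyOfFinitePresentation q := LocallyOfFinitePresentation.iff_locallyOfFiniteType.2 inferInstance
  haveI : QuasiSeparated q := (quasiSeparated_iff_quasiSeparatedSpace q).2 inferInstance
  -- the system
  haveI : Nonempty (Finset Ω) := ⟨∅⟩
  let D := H18PBC.SubalgSystem.specSystem R Ω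
  let c := H18PBC.SubalgSystem.specCone R Ω
  have hc : IsLimit c := H18PBC.SubalgSystem.isLimitSpecCone R Ω
  haveI : ∀ (i j : (Finset Ω)ᵒᵖ) (g : i ⟶ j), IsAffineHom (D.map g) := fun i j g =>
    inferInstanceAs (IsAffineHom (Spec.map _))
  haveI : ∀ i, CompactSpace (D.obj i) := fun i => inferInstanceAs (CompactSpace (Spec _))
  haveI : ∀ i, QuasiSeparatedSpace (D.obj i) := fun i => inferInstanceAs (QuasiSeparatedSpace (Spec _))
  let st : ∀ i : (Finset Ω)ᵒᵖ, D.obj i ⟶ Spec (CommRingCat.of R) := fun i =>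
    stS (Algebra.adjoin R ((unop i : Finset Ω) : Set Ω))
  have hstπ : ∀ i, c.π.app i ≫ st i = σ := fun i =>
    (Spec.map_comp _ _).symm.trans (congrArg Spec.map (CommRingCat.hom_ext (RingHom.ext fun _ => rfl)))
  have hst : ∀ {i j : (Finset Ω)ᵒᵖ} (φ : j ⟶ i), D.map φ ≫ st i = st j := fun φ =>
    (Spec.map_comp _ _).symm.trans (congrArg Spec.map (CommRingCat.hom_ext (RingHom.ext fun _ => rfl)))
  obtain ⟨i, ⟨Mod⟩⟩ := exists_model hc (show T ⟶ c.pt from q)
  -- the module at a stage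
  let W₀ := W p (st i) Mod.p
  let b : W₀ ⟶ D.obj i := pullback.snd p _ ≫ Mod.p
  let h₀ : Pic13.prodK Ω Y q ⟶ W₀ := pullback.lift (pullback.fst _ _ ≫ pullback.fst p σ)
    (pullback.snd _ _ ≫ Mod.g) (by
      simp only [Category.assoc]
      rw [pullback.condition (f := p), reassoc_of% Mod.hpb.w, hstπ]
      exact (reassoc_of% pullback.condition (f := Y ↘ Spec (CommRingCat.of Ω)) (g := q)) σ)
  haveI : CompactSpace W₀ := QuasiCompact.compactSpace_of_compactSpace b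
  haveI : QuasiSeparatedSpace W₀ := quasiSeparatedSpace_of_quasiSeparated b
  have hh₀ : IsPullback h₀ (pullback.snd (Y ↘ Spec (CommRingCat.of Ω)) q ≫ q) b (c.π.app i) := by
    refine IsPullback.paste_vert (v₁₁ := pullback.snd (Y ↘ Spec (CommRingCat.of Ω)) q) ?_ Mod.hpb
    refine IsPullback.of_right (h₁₂ := pullback.fst p (Mod.p ≫ st i)) (h₂₂ := Mod.p ≫ st i) (v₁₃ := p) ?_
      (pullback.lift_snd _ _ _) (IsPullback.of_hasPullback _ _)
    rw [pullback.lift_fst, ← Category.assoc, Mod.hpb.w, Category.assoc, hstπ]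
    exact (IsPullback.of_hasPullback (Y ↘ Spec (CommRingCat.of Ω)) q).flip.paste_vert
      (IsPullback.of_hasPullback p σ).flip |>.flip
  let D₁ := pbDiagram D i b
  let c₁ := pbCone D c i b
  have hc₁ : IsLimit c₁ := isLimitPbCone D i b hc
  let E : c₁.pt ≅ Pic13.prodK Ω Y q := (IsPullback.of_hasPullback b (c.π.app i)).isoIsPullback _ _ hh₀
  obtain ⟨j, -, L₁, hL₁, ⟨eL₁⟩⟩ := H12Pic.exists_invertible_stage hc₁ (Over.mk (𝟙 i))
    (H11Ample.isInvertible_pullback E.hom hM)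
  -- the two sections at a stage
  have hsec : ∀ u : Spec (CommRingCat.of Ω) ⟶ T, u ≫ q = 𝟙 _ → ∃ (l : (Finset Ω)ᵒᵖ) (φ : l ⟶ i) (ν : D.obj l ⟶ Mod.P),
      c.π.app l ≫ ν = u ≫ Mod.g ∧ ν ≫ Mod.p = D.map φ := by
    intro u hu
    haveI : ∀ {a b : Over i} (g : a ⟶ b), IsAffineHom ((Over.forget i ⋙ D).map g) := fun g =>
      inferInstanceAs (IsAffineHom (D.map g.left))
    haveI : ∀ a : Over i, CompactSpace ((Over.forget i ⋙ D).obj a) := fun a =>
      inferInstanceAs (CompactSpace (D.obj a.left))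
    haveI : ∀ a : Over i, QuasiSeparatedSpace ((Over.forget i ⋙ D).obj a) := fun a =>
      inferInstanceAs (QuasiSeparatedSpace (D.obj a.left))
    let T' : Over.forget i ⋙ D ⟶ (Functor.const (Over i)).obj (D.obj i) :=
      { app := fun l => D.map l.hom
        naturality := fun l l' ψ => by simp [← D.map_comp] }
    obtain ⟨l, ν, hν, hν'⟩ := Scheme.exists_π_app_comp_eq_of_locallyOfFinitePresentation (Over.forget i ⋙ D) T'
      Mod.p (c.whisker (Over.forget i)) ((Functor.Initial.isLimitWhiskerEquiv (Over.forget i) c).symm hc) (u ≫ Mod.g) (by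
        ext l
        show c.π.app l.left ≫ D.map l.hom = (u ≫ Mod.g) ≫ Mod.p
        rw [c.w, Category.assoc, Mod.hpb.w, ← Category.assoc, hu]
        exact (Category.id_comp _).symm)
    exact ⟨l.left, l.hom, ν, hν, hν'⟩
  obtain ⟨l₁, φ₁, ν₁, hν₁, hν₁'⟩ := hsec t ht
  obtain ⟨l₂, φ₂, ν₂, hν₂, hν₂'⟩ := hsec t₀ ht₀
  obtain ⟨m, ψ, ψ₁, -⟩ := IsCofilteredOrEmpty.cone_objs j.left l₁
  obtain ⟨m', ψ', ψ₂, -⟩ := IsCofilteredOrEmpty.cone_objs m l₂
  let Φ : m' ⟶ i := ψ' ≫ ψ ≫ j.hom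
  -- the shifted model
  let M' := Mod.shift Φ
  let a := M'.p
  let lift' : ∀ {l : (Finset Ω)ᵒᵖ} (φ : l ⟶ i) (ν : D.obj l ⟶ Mod.P) (_ : m' ⟶ l), ν ≫ Mod.p = D.map φ →
      {τ : D.obj m' ⟶ M'.P // τ ≫ a = 𝟙 _} := fun {l} φ ν g hg =>
    ⟨pullback.lift (D.map g ≫ ν) (𝟙 _)
      (by rw [Category.assoc, hg, ← D.map_comp, Category.id_comp, Subsingleton.elim (g ≫ φ) Φ]),
      pullback.lift_snd _ _ _⟩
  have hπτ : ∀ {l : (Finset Ω)ᵒᵖ} (φ : l ⟶ i) (ν : D.obj l ⟶ Mod.P) (g : m' ⟶ l) (hg : ν ≫ Mod.p = D.map φ)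
      (u : Spec (CommRingCat.of Ω) ⟶ T), u ≫ q = 𝟙 _ → c.π.app l ≫ ν = u ≫ Mod.g →
      c.π.app m' ≫ (lift' φ ν g hg).1 = u ≫ M'.g := fun {l} φ ν g hg u hu hν => by
    refine pullback.hom_ext ?_ ?_
    · simp only [lift', M', Model.shift, Category.assoc, pullback.lift_fst]
      rw [← Category.assoc, c.w, hν]
    · simp only [lift', M', Model.shift, Category.assoc, pullback.lift_snd, Category.comp_id]
      rw [← Category.assoc, hu]
      exact (Category.id_comp _).symm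
  obtain ⟨τ, hτ, hτg⟩ : ∃ τ : D.obj m' ⟶ M'.P, τ ≫ a = 𝟙 _ ∧ c.π.app m' ≫ τ = t ≫ M'.g :=
    ⟨_, (lift' φ₁ ν₁ (ψ' ≫ ψ₁) hν₁').2, hπτ φ₁ ν₁ _ hν₁' t ht hν₁⟩
  obtain ⟨τ₀, hτ₀, hτ₀g⟩ : ∃ τ : D.obj m' ⟶ M'.P, τ ≫ a = 𝟙 _ ∧ c.π.app m' ≫ τ = t₀ ≫ M'.g :=
    ⟨_, (lift' φ₂ ν₂ ψ₂ hν₂').2, hπτ φ₂ ν₂ _ hν₂' t₀ ht₀ hν₂⟩
  clear hπτ lift'
  -- the module on the shifted product
  let W' := W p (st m') a
  let mW : W' ⟶ W₀ := pullback.lift (pullback.fst _ _) (pullback.snd _ _ ≫ pullback.fst Mod.p (D.map Φ)) (by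
    rw [pullback.condition, Category.assoc]
    show _ ≫ pullback.snd Mod.p (D.map Φ) ≫ _ = _
    rw [pullback.condition_assoc, hst])
  let χ : W' ⟶ D₁.obj j := pullback.lift mW (pullback.snd _ _ ≫ a ≫ D.map (ψ' ≫ ψ)) (by
    simp only [mW, b, a, M', Model.shift, pullback.lift_snd_assoc, Category.assoc, pullback.condition]
    rw [← D.map_comp, Category.assoc])
  let h' : Pic13.prodK Ω Y q ⟶ W' := pullback.lift (pullback.fst _ _ ≫ pullback.fst p σ)
    (pullback.snd _ _ ≫ M'.g) (by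
      simp only [Category.assoc]
      rw [pullback.condition (f := p), reassoc_of% M'.hpb.w, hstπ]
      exact (reassoc_of% pullback.condition (f := Y ↘ Spec (CommRingCat.of Ω)) (g := q)) σ)
  have hχ : h' ≫ χ = E.inv ≫ c₁.π.app j := by
    refine pullback.hom_ext ?_ ?_
    · have h1 : h' ≫ mW = h₀ := by
        refine pullback.hom_ext ?_ ?_
        · simp [h', mW, h₀]
        · simp [h', mW, h₀, M', Model.shift]
          exact congrArg _ (pullback.lift_fst _ _ _)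
      simp [χ, c₁, pbCone, E, h1]
    · simp only [χ, c₁, pbCone, E, h', Category.assoc, pullback.lift_snd, pullback.lift_snd_assoc,
        IsPullback.isoIsPullback_inv_snd_assoc]
      refine congrArg (pullback.snd _ q ≫ ·) ?_
      show M'.g ≫ M'.p ≫ D.map (ψ' ≫ ψ) = q ≫ c.π.app j.left
      rw [← Category.assoc, M'.hpb.w, Category.assoc]
      exact congrArg (q ≫ ·) (c.w _)
  obtain ⟨MW, hMW, ⟨eMW⟩⟩ : ∃ MW : W'.Modules, PicF.IsInvertible MW ∧ Nonempty (pb h' MW ≅ M) :=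
    ⟨pb χ L₁, H11Ample.isInvertible_pullback _ hL₁, ⟨pC h' χ hχ L₁ ≪≫ (pC E.inv (c₁.π.app j) rfl L₁).symm ≪≫
      (Scheme.Modules.pullback E.inv).mapIso eL₁ ≪≫ (Scheme.Modules.pullbackComp E.inv E.hom).app M ≪≫
        (Scheme.Modules.pullbackCongr E.inv_hom_id).app M ≪≫ (Scheme.Modules.pullbackId _).app M⟩⟩
  -- the isomorphisms on the limit
  let pm := pullback.snd p (st m')
  let u : pullback pm (c.π.app m') ⟶ Y := pullback.lift (pullback.fst _ _ ≫ pullback.fst p (st m')) (pullback.snd _ _)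
    (by rw [Category.assoc, pullback.condition, pullback.condition_assoc, hstπ])
  have hu : ∀ (τ : D.obj m' ⟶ M'.P) (hτ : τ ≫ a = 𝟙 _) (v : Spec (CommRingCat.of Ω) ⟶ T) (hv : v ≫ q = 𝟙 _),
      c.π.app m' ≫ τ = v ≫ M'.g →
      pullback.fst pm (c.π.app m') ≫ sl p (st m') a τ hτ = u ≫ Pic13.sliceAt Ω Y q v hv ≫ h' := by
    intro τ hτ v hv he
    refine pullback.hom_ext ?_ ?_
    · simp [sl, u, h', Pic13.sliceAt]
      exact ((congrArg (_ ≫ ·) (Category.id_comp _)).trans (pullback.lift_fst _ _ _)).symm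
    · simp only [sl, u, h', Pic13.sliceAt, Category.assoc, pullback.lift_snd, pullback.lift_snd_assoc,
        pullback.lift_fst_assoc]
      rw [pullback.condition_assoc, he]
      erw [pullback.lift_snd_assoc]
  have hFP : ∀ {Z : Scheme.{u}} {G : Z.Modules}, PicF.IsInvertible G → CohB1.IsFP G := fun hG =>
    H8Props.FinLocFree.isFP_of_isFinLocFree _ (H23Para.isFinLocFree_of_isInvertible hG)
  have hdesc : ∀ (τ : D.obj m' ⟶ M'.P) (hτ : τ ≫ a = 𝟙 _) (v : Spec (CommRingCat.of Ω) ⟶ T) (hv : v ≫ q = 𝟙 _),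
      c.π.app m' ≫ τ = v ≫ M'.g → ∀ (G : (pullback p (st m')).Modules), PicF.IsInvertible G →
      (pb u (Pic13.fibreMod Ω Y q v hv M) ≅ pb (pullback.fst pm (c.π.app m')) G) →
      ∃ (l : (Finset Ω)ᵒᵖ) (φ : l ⟶ m'),
        H8Props.IsoDescent.IsoAlong (pullback.fst pm (D.map φ ≫ 𝟙 _)) (pb (sl p (st m') a τ hτ) MW) G := by
    intro τ hτ v hv he G hG e
    exact H8Props.IsoDescent.exists_isoAlong_of_base hc pm (hFP (H11Ample.isInvertible_pullback _ hMW)) (hFP hG)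
      (𝟙 _) (c.π.app m') (Category.comp_id _)
      (isoAlong_of_comp (hu τ hτ v hv he) eMW e)
  have hLn := H11Ample.isInvertible_tensorPow hL n
  obtain ⟨w⟩ := H11Ample.exists_iso_pullback_tensorPow (pullback.fst p σ) hL n
  have hu₁ : u ≫ pullback.fst p σ = pullback.fst pm (c.π.app m') ≫ pullback.fst p (st m') := pullback.lift_fst _ _ _
  let G₁ := pb (pullback.fst p (st m')) (CohB1.tensorPow L n)
  let e₁ : pb u (Pic13.fibreMod Ω Y q t ht M) ≅ pb (pullback.fst pm (c.π.app m')) G₁ :=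
    (Scheme.Modules.pullback u).mapIso (et ≪≫ w.symm) ≪≫ pC u (pullback.fst p σ) hu₁ (CohB1.tensorPow L n) ≪≫
      (pC (pullback.fst pm (c.π.app m')) (pullback.fst p (st m')) rfl (CohB1.tensorPow L n)).symm
  obtain ⟨k₁, χ₁, hk₁⟩ := hdesc τ hτ t ht hτg G₁ (H11Ample.isInvertible_pullback _ hLn) e₁
  let e₂ : pb u (Pic13.fibreMod Ω Y q t₀ ht₀ M) ≅
      pb (pullback.fst pm (c.π.app m')) (Coh.structureModule (pullback p (st m'))) :=
    (Scheme.Modules.pullback u).mapIso et₀ ≪≫ H16Derived.KFlat.Stalk.structurePullbackIso u ≪≫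
      (H16Derived.KFlat.Stalk.structurePullbackIso (pullback.fst pm (c.π.app m'))).symm
  obtain ⟨k₂, χ₂, hk₂⟩ := hdesc τ₀ hτ₀ t₀ ht₀ hτ₀g _ H11Ample.isInvertible_structureModule e₂
  obtain ⟨k, θ₁, θ₂, -⟩ := IsCofilteredOrEmpty.cone_objs k₁ k₂
  -- the final stage
  let Ψ : k ⟶ m' := θ₁ ≫ χ₁
  let M'' := M'.shift Ψ
  let e' : ∀ (τ : D.obj m' ⟶ M'.P), τ ≫ a = 𝟙 _ → {τ' : D.obj k ⟶ M''.P // τ' ≫ M''.p = 𝟙 _} := fun τ hτ =>
    ⟨pullback.lift (D.map Ψ ≫ τ) (𝟙 _)
      (by rw [Category.assoc, Category.id_comp]; exact (congrArg (D.map Ψ ≫ ·) hτ).trans (Category.comp_id _)),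
      pullback.lift_snd _ _ _⟩
  let r : W p (st k) M''.p ⟶ W' := pullback.lift (pullback.fst _ _) (pullback.snd _ _ ≫ pullback.fst M'.p (D.map Ψ)) (by
    rw [pullback.condition, Category.assoc]
    show _ ≫ pullback.snd M'.p (D.map Ψ) ≫ _ = _
    rw [pullback.condition_assoc, hst])
  let rX : ∀ {l : (Finset Ω)ᵒᵖ} (θ : k ⟶ l) (χ : l ⟶ m'), pullback p (st k) ⟶ pullback pm (D.map χ ≫ 𝟙 _) :=
    fun {l} θ χ => pullback.lift (pullback.lift (pullback.fst _ _) (pullback.snd _ _ ≫ D.map (θ ≫ χ))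
      (by rw [Category.assoc, hst, pullback.condition])) (pullback.snd _ _ ≫ D.map θ)
      (by rw [pullback.lift_snd, Category.assoc, Category.comp_id, ← D.map_comp])
  have hsl : ∀ (τ : D.obj m' ⟶ M'.P) (hτ : τ ≫ a = 𝟙 _) {l : (Finset Ω)ᵒᵖ} (θ : k ⟶ l) (χ : l ⟶ m'),
      sl p (st k) M''.p (e' τ hτ).1 (e' τ hτ).2 ≫ r = rX θ χ ≫ pullback.fst pm _ ≫ sl p (st m') a τ hτ := by
    intro τ hτ l θ χ
    refine pullback.hom_ext ?_ ?_
    · simp [sl, r, rX]
    · simp only [sl, r, rX, e', M'', Model.shift, Category.assoc, pullback.lift_snd, pullback.lift_snd_assoc,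
        pullback.lift_fst, pullback.lift_fst_assoc]
      rw [show Ψ = θ ≫ χ from Subsingleton.elim _ _]
      exact congrArg _ (pullback.lift_fst _ _ _)
  refine ⟨Algebra.adjoin R ((unop k : Finset Ω) : Set Ω), ⟨unop k, rfl⟩, M''.P, M''.p,
    inferInstanceAs (LocallyOfFiniteType M''.p), M''.qc, (e' τ hτ).1, (e' τ₀ hτ₀).1, (e' τ hτ).2,
    (e' τ₀ hτ₀).2, n, hn, ?_, pb r MW, H11Ample.isInvertible_pullback _ hMW, ?_, ?_⟩
  · haveI := hT
    exact M''.hpb.isoPullback.hom.homeomorph.surjective.connectedSpace M''.hpb.isoPullback.hom.continuous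
  · obtain ⟨e⟩ := iso_of_isoAlong (hsl τ hτ θ₁ χ₁)
      (v := pullback.lift (pullback.fst _ _) (pullback.snd _ _ ≫ D.map Ψ) (by rw [Category.assoc, hst, pullback.condition]))
      (pullback.lift_fst _ _ _) hk₁
    exact ⟨e ≪≫ pC _ _ (pullback.lift_fst _ _ _) _⟩
  · obtain ⟨e⟩ := iso_of_isoAlong (hsl τ₀ hτ₀ θ₂ χ₂) rfl hk₂
    exact ⟨e ≪≫ H16Derived.KFlat.Stalk.structurePullbackIso _⟩

end Groth.Agent.H12Pic.TauOpen
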