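import Groth.Agent.H12Pic.TauOpen.Generization
import Groth.Agent.H12Pic.TauOpen.Witness
import Groth.Agent.H06GeomRed.Open
import Groth.Agent.H17.Reduced
import Groth.Agent.S0420
import Groth.Agent.S2501
import Groth.Agent.S4625

/-!
# The locus of numerical triviality on the fibres is open
-/

set_option autoImplicit false
set_option linter.style.haveILetI false
set_option linter.unusedSectionVars false
universe u

open CategoryTheory CategoryTheory.Limits AlgebraicGeometry TopologicalSpace Topology
open Groth.Agent.H25Theta (pb pC pI)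

noncomputable section

namespace Groth.Agent.H12Pic.TauOpen

open Groth.Agent.H12Pic.NumTriv

/-- A deformation over a domain with connected generic parameters gives numerical triviality over an open. -/
theorem ntAt_of_domain {X S : Scheme.{u}} (f : X ⟶ S) [IsProper f] {L : X.Modules} (hL : PicF.IsInvertible L)
    {A : Type u} [CommRing A] [IsDomain A] {Ω : Type u} [Field Ω] [IsAlgClosed Ω] (j : A →+* Ω)
    (hj : Function.Injective j) {P : Scheme.{u}} (st : Spec (CommRingCat.of A) ⟶ S)
    (a : P ⟶ Spec (CommRingCat.of A)) [LocallyOfFiniteType a] [QuasiCompact a]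
    {τ τ₀ : Spec (CommRingCat.of A) ⟶ P} (hτ : τ ≫ a = 𝟙 _) (hτ₀ : τ₀ ≫ a = 𝟙 _) {n : ℕ} (hn : 0 < n)
    (hconn : ConnectedSpace (pullback a (Spec.map (CommRingCat.ofHom j)) : Scheme.{u}))
    {M : (W f st a).Modules} (hM : PicF.IsInvertible M)
    (e : pb (sl f st a τ hτ) M ≅ pb (pullback.fst f st) (CohB1.tensorPow L n))
    (e₀ : pb (sl f st a τ₀ hτ₀) M ≅ Coh.structureModule (pullback f st)) :
    ∃ V : (Spec (CommRingCat.of A)).Opens, (V : Set (Spec (CommRingCat.of A))).Nonempty ∧
      ∀ x ∈ V, NTAt f L (st x) := by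
  let B := Spec (CommRingCat.of A)
  haveI : IsIntegral B := inferInstanceAs (IsIntegral (Spec (CommRingCat.of A)))
  let σ : Spec (CommRingCat.of Ω) ⟶ B := Spec.map (CommRingCat.ofHom j)
  let η : B := σ (IsLocalRing.closedPoint Ω)
  have hη : η = genericPoint B := by
    rw [genericPoint_eq_bot_of_affine (R := CommRingCat.of A)]
    refine PrimeSpectrum.ext ?_
    show Ideal.comap j _ = ⊥
    rw [(Ideal.eq_bot_or_top (IsLocalRing.closedPoint Ω).asIdeal).resolve_right (IsLocalRing.closedPoint Ω).isPrime.ne_top]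
    exact Ideal.comap_bot_of_injective j hj
  let b := B.descResidueField (Scheme.stalkClosedPointTo σ)
  have hb : Spec.map b ≫ B.fromSpecResidueField η = σ :=
    Scheme.descResidueField_stalkClosedPointTo_fromSpecResidueField Ω B σ
  have hgen : GeometricallyConnected (a.fiberToSpecResidueField η) := by
    letI : Algebra (B.residueField η) Ω := b.hom.toAlgebra
    refine (S4625.result (k := B.residueField η) (K := Ω) (a.fiberToSpecResidueField η)).2 ?_
    have hsq : IsPullback (pullback.fst (a.fiberToSpecResidueField η) (Spec.map b) ≫ a.fiberι η)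
        (pullback.snd (a.fiberToSpecResidueField η) (Spec.map b)) a σ := by
      have h := (IsPullback.of_hasPullback (a.fiberToSpecResidueField η) (Spec.map b)).paste_horiz
        (IsPullback.of_hasPullback a (B.fromSpecResidueField η))
      rwa [hb] at h
    haveI : ConnectedSpace (pullback (a.fiberToSpecResidueField η) (Spec.map b) : Scheme.{u}) := by
      haveI := hconn
      exact hsq.isoPullback.inv.homeomorph.surjective.connectedSpace hsq.isoPullback.inv.continuous
    exact S2501.result (k := Ω) (pullback.snd (a.fiberToSpecResidueField η) (Spec.map b))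
  rw [hη] at hgen
  obtain ⟨V, hV, hVconn⟩ := S0420.result a hgen
  refine ⟨V, hV, fun x hx => ?_⟩
  obtain ⟨K, iF, iA, ⟨φ⟩⟩ : ∃ (K : Type u) (_ : Field K), ∃ (_ : IsAlgClosed K), Nonempty (B.residueField x →+* K) :=
    ⟨AlgebraicClosure (B.residueField x), inferInstance, inferInstance, ⟨algebraMap _ _⟩⟩
  let σx : Spec (CommRingCat.of K) ⟶ B := Spec.map (CommRingCat.ofHom φ) ≫ B.fromSpecResidueField x
  have hσx : ∀ z, σx z = x := fun z => (Scheme.Hom.comp_apply _ _ z).trans (Scheme.fromSpecResidueField_apply x _)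
  let σV : Spec (CommRingCat.of K) ⟶ V.toScheme := IsOpenImmersion.lift V.ι σx (by
    rintro _ ⟨z, rfl⟩
    rw [Scheme.Opens.range_ι, hσx]
    exact hx)
  have hσV : σV ≫ V.ι = σx := IsOpenImmersion.lift_fac _ _ _
  have hsq : IsPullback (pullback.fst (a ∣_ V) σV ≫ (a ⁻¹ᵁ V).ι) (pullback.snd (a ∣_ V) σV) a σx := by
    have h := (IsPullback.of_hasPullback (a ∣_ V) σV).paste_horiz (isPullback_morphismRestrict a V).flip
    rwa [hσV] at h
  haveI := hVconn.geometrically_connectedSpace σV _ _ (IsPullback.of_hasPullback (a ∣_ V) σV)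
  have hc : ConnectedSpace (TK a σx) :=
    hsq.isoPullback.hom.homeomorph.surjective.connectedSpace hsq.isoPullback.hom.continuous
  exact (ntAlong_iff_residue f hL (σx ≫ st) ((Scheme.Hom.comp_apply σx st _).trans (congrArg st (hσx _)))).1
    (ntAlong_of_witness f st a σx hL hM hτ hτ₀ hn e e₀ hc)

/-- Numerical triviality at the generic point of a domain spreads to a dense open. -/
theorem exists_open_domain {R : Type u} [CommRing R] [IsDomain R] [IsNoetherianRing R] {X : Scheme.{u}}
    (p : X ⟶ Spec (CommRingCat.of R)) [IsProper p] {L : X.Modules} (hL : PicF.IsInvertible L)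
    (h : NTAt p L (genericPoint (Spec (CommRingCat.of R)))) :
    ∃ U : (Spec (CommRingCat.of R)).Opens, (U : Set (Spec (CommRingCat.of R))).Nonempty ∧ ∀ x ∈ U, NTAt p L x := by
  obtain ⟨Ω, iF, iA, iAlg, hinj⟩ : ∃ (Ω : Type u) (_ : Field Ω) (_ : IsAlgClosed Ω) (_ : Algebra R Ω),
      Function.Injective (algebraMap R Ω) :=
    ⟨AlgebraicClosure (FractionRing R), inferInstance, inferInstance, inferInstance, by
      rw [IsScalarTower.algebraMap_eq R (FractionRing R) (AlgebraicClosure (FractionRing R))]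
      exact (algebraMap (FractionRing R) (AlgebraicClosure (FractionRing R))).injective.comp
        (IsFractionRing.injective R (FractionRing R))⟩
  let σ : Spec (CommRingCat.of Ω) ⟶ Spec (CommRingCat.of R) := Spec.map (CommRingCat.ofHom (algebraMap R Ω))
  have hσ : σ (IsLocalRing.closedPoint Ω) = genericPoint (Spec (CommRingCat.of R)) := by
    rw [genericPoint_eq_bot_of_affine (R := CommRingCat.of R)]
    refine PrimeSpectrum.ext ?_
    show Ideal.comap (algebraMap R Ω) _ = ⊥
    rw [(Ideal.eq_bot_or_top (IsLocalRing.closedPoint Ω).asIdeal).resolve_right (IsLocalRing.closedPoint Ω).isPrime.ne_top]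
    exact Ideal.comap_bot_of_injective _ hinj
  obtain ⟨A, hA, P, a, ha, ha', τ, τ₀, hτ, hτ₀, n, hn, hconn, M, hM, ⟨e⟩, ⟨e₀⟩⟩ :=
    exists_witness p hL ((ntAlong_iff_residue p hL σ hσ).2 h)
  haveI := ha
  haveI := ha'
  obtain ⟨V, hV, hVx⟩ := ntAt_of_domain p hL (A := A) A.val.toRingHom Subtype.val_injective (stS A) a hτ hτ₀ hn
    hconn hM e e₀
  haveI : Algebra.FiniteType R A := A.fg_iff_finiteType.1 hA
  haveI : LocallyOfFiniteType (stS A) :=
    (HasRingHomProperty.Spec_iff (P := @LocallyOfFiniteType)).2 (RingHom.finiteType_algebraMap.2 inferInstance)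
  haveI : LocallyOfFinitePresentation (stS A) := LocallyOfFinitePresentation.iff_locallyOfFiniteType.2 inferInstance
  haveI : IsNoetherianRing A := Algebra.FiniteType.isNoetherianRing R A
  haveI : IsNoetherian (Spec (CommRingCat.of A)) := inferInstance
  have hC := (stS A).isConstructible_image (s := (V : Set (Spec (CommRingCat.of A))))
    (H28Top.isConstructible_of_isOpen V.isOpen)
  have hgA : (stS A) (genericPoint (Spec (CommRingCat.of A))) = genericPoint (Spec (CommRingCat.of R)) := by
    rw [genericPoint_eq_bot_of_affine (R := CommRingCat.of A), genericPoint_eq_bot_of_affine (R := CommRingCat.of R)]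
    refine PrimeSpectrum.ext ?_
    show Ideal.comap (algebraMap R A) ⊥ = ⊥
    refine Ideal.comap_bot_of_injective _ fun x y hxy => hinj ?_
    exact congrArg Subtype.val hxy
  have hgV : genericPoint (Spec (CommRingCat.of R)) ∈ (stS A) '' (V : Set (Spec (CommRingCat.of A))) :=
    ⟨_, ((genericPoint_spec _).mem_open_set_iff V.2).2 (by simpa using hV), hgA⟩
  obtain ⟨U, hU, hne, hsub⟩ := H28Top.IsConstructible.exists_isOpen_inter_subset hC
    (IrreducibleSpace.isIrreducible_univ _) (fun y _ => closure_mono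
      (s := {genericPoint (Spec (CommRingCat.of R))})
      (t := (stS A) '' (V : Set (Spec (CommRingCat.of A))) ∩ Set.univ)
      (Set.singleton_subset_iff.2 ⟨hgV, trivial⟩) ((genericPoint_spec _).def.ge trivial))
  refine ⟨⟨U, hU⟩, by simpa using hne, fun x hx => ?_⟩
  obtain ⟨y, hy, rfl⟩ := hsub ⟨hx, trivial⟩
  exact hVx y hy

/-- Numerical triviality after a change of base. -/
theorem ntAlong_base {X S : Scheme.{u}} (f : X ⟶ S) [IsProper f] {L : X.Modules} (hL : PicF.IsInvertible L)
    {T : Scheme.{u}} (ι : T ⟶ S) {K : Type u} [Field K] (σ : Spec (CommRingCat.of K) ⟶ T) :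
    NTAlong (pullback.snd f ι) (pb (pullback.fst f ι) L) σ ↔ NTAlong f L (σ ≫ ι) := by
  let p := pullback.snd f ι
  have hM : PicF.IsInvertible (pb (pullback.fst f ι) L) := H11Ample.isInvertible_pullback _ hL
  letI : (pullback p σ).Over (Spec (CommRingCat.of K)) := ⟨pullback.snd p σ⟩
  haveI : IsProper (pullback p σ ↘ Spec (CommRingCat.of K)) := inferInstanceAs (IsProper (pullback.snd p σ))
  have hsq : IsPullback (pullback.fst p σ ≫ pullback.fst f ι) (pullback p σ ↘ Spec (CommRingCat.of K)) f (σ ≫ ι) :=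
    (IsPullback.of_hasPullback p σ).paste_horiz (IsPullback.of_hasPullback f ι)
  rw [ntAlong_sq f hL (σ ≫ ι) _ hsq]
  exact ⟨fun hn => (NT.congr K ⟨H11Ample.isInvertible_pullback _ hM, hn⟩ (pC _ _ rfl L)).num,
    fun hn => (NT.congr K ⟨H11Ample.isInvertible_pullback _ hL, hn⟩ (pC _ _ rfl L).symm).num⟩

/-- Numerical triviality at a point spreads to an open of its closure. -/
theorem exists_open_closure {X S : Scheme.{u}} [IsLocallyNoetherian S] (f : X ⟶ S) [IsProper f] {L : X.Modules}
    (hL : PicF.IsInvertible L) {z : S} (hz : NTAt f L z) :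
    ∃ O, IsOpen O ∧ z ∈ O ∧ ∀ x ∈ O ∩ closure ({z} : Set S), NTAt f L x := by
  obtain ⟨U₀, hU₀, hzU, -⟩ := exists_isAffineOpen_mem_and_subset (U := (⊤ : S.Opens)) (x := z) trivial
  let J := Scheme.IdealSheafData.vanishingIdeal (H22Alg.DevLength.cl z)
  haveI : IsIntegral J.subscheme := H22Alg.isIntegral_vanishingIdeal_closure z
  let ζ := J.subschemeι
  have hζ : Set.range ζ = closure ({z} : Set S) := H17.range_vanishingIdeal_subschemeι _
  let V := ζ ⁻¹ᵁ U₀
  have hV : IsAffineOpen V := hU₀.preimage ζ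
  obtain ⟨w, hw⟩ : z ∈ Set.range ζ := hζ.ge (subset_closure rfl)
  haveI : Nonempty V.toScheme := ⟨⟨w, show ζ w ∈ U₀ from hw ▸ hzU⟩⟩
  haveI : IsLocallyNoetherian J.subscheme := LocallyOfFiniteType.isLocallyNoetherian ζ
  let R := Γ(J.subscheme, V)
  haveI : Nonempty V := ⟨⟨w, show ζ w ∈ U₀ from hw ▸ hzU⟩⟩
  haveI : IsNoetherianRing R := IsLocallyNoetherian.component_noetherian ⟨V, hV⟩
  have hdom : IsDomain R := IsIntegral.component_integral V
  let ι : Spec R ⟶ S := hV.fromSpec ≫ ζ
  let p := pullback.snd f ι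
  let M := pb (pullback.fst f ι) L
  have hM : PicF.IsInvertible M := H11Ample.isInvertible_pullback _ hL
  have key : ∀ x : Spec R, NTAt p M x ↔ NTAt f L (ι x) := fun x =>
    (ntAlong_base f hL ι (K := (Spec R).residueField x) ((Spec R).fromSpecResidueField x)).trans
      (ntAlong_iff_residue f hL (K := (Spec R).residueField x) ((Spec R).fromSpecResidueField x ≫ ι)
        ((Scheme.Hom.comp_apply _ ι _).trans (congrArg ι (Scheme.fromSpecResidueField_apply x _))))
  have hgz : ι (genericPoint (Spec R)) = z := by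
    show (hV.fromSpec ≫ ζ) (genericPoint (Spec R)) = z
    rw [Scheme.Hom.comp_apply, genericPoint_eq_of_isOpenImmersion hV.fromSpec]
    have h2 : IsGenericPoint (ζ (genericPoint J.subscheme)) (closure {z}) :=
      (LeadDev.range_eq_closure ζ (ξ := ζ (genericPoint J.subscheme)) rfl).symm.trans hζ
    exact h2.eq isGenericPoint_closure
  obtain ⟨U, hU, hUx⟩ := @exists_open_domain R _ hdom inferInstance _ p inferInstance _ hM ((key _).2 (hgz ▸ hz))
  have hgU : genericPoint (Spec R) ∈ U := ((genericPoint_spec _).mem_open_set_iff U.2).2 (by simpa using hU)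
  obtain ⟨O, hO, hOU⟩ := ζ.isClosedEmbedding.isInducing.isOpen_iff.1 ((hV.fromSpec ''ᵁ U).2)
  refine ⟨O, hO, ?_, fun x ⟨hxO, hxz⟩ => ?_⟩
  · have h1 : hV.fromSpec (genericPoint (Spec R)) ∈ ζ ⁻¹' O := hOU.ge ⟨_, hgU, rfl⟩
    rw [← hgz]
    show (hV.fromSpec ≫ ζ) _ ∈ O
    rw [Scheme.Hom.comp_apply]
    exact h1
  · obtain ⟨y, rfl⟩ := hζ.ge hxz
    obtain ⟨y', hy', rfl⟩ := hOU.le hxO
    have := (key y').1 (hUx y' hy')
    rwa [show ι y' = ζ (hV.fromSpec y') from Scheme.Hom.comp_apply _ _ _] at this

/-- The locus of numerical triviality on the fibres is open. -/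
theorem isOpen_ntAt {X S : Scheme.{u}} [IsNoetherian S] (f : X ⟶ S) [IsProper f] {L : X.Modules}
    (hL : PicF.IsInvertible L) : IsOpen {s : S | NTAt f L s} :=
  H06GeomRed.isOpen_of_generization (fun _ _ h hx => ntAt_of_specializes f hL h hx) fun _ hz =>
    exists_open_closure f hL hz

end Groth.Agent.H12Pic.TauOpen
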